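import Mathlib

/-!
Scott's inequality for a pair of permutations fixing a point and transitive on the others, and
the rank of `1 - P` for a permutation of prime order.
-/

set_option autoImplicit false

namespace Cfsg.Agent.M23Gen.Scott

variable {α : Type*} [Fintype α] [DecidableEq α]

/-- The permutation operator. -/
def act (g : Equiv.Perm α) : (α → ℚ) →ₗ[ℚ] (α → ℚ) := LinearMap.funLeft ℚ ℚ g.symm

theorem act_apply (g : Equiv.Perm α) (v : α → ℚ) (a : α) : act g v a = v (g.symm a) := rfl

theorem act_mul (g h : Equiv.Perm α) (v : α → ℚ) : act (g * h) v = act g (act h v) := rfl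

theorem act_one (v : α → ℚ) : act (1 : Equiv.Perm α) v = v := rfl

/-- The image of `1 - P`. -/
def diff (g : Equiv.Perm α) : Submodule ℚ (α → ℚ) := LinearMap.range (LinearMap.id - act g)

theorem mem_diff (g : Equiv.Perm α) (v : α → ℚ) : v - act g v ∈ diff g := ⟨v, rfl⟩

/-- Scott's inequality. -/
theorem scott {x y z : Equiv.Perm α} (hxyz : x * y * z = 1) (a₀ b₀ : α) (hne : b₀ ≠ a₀)
    (htr : ∀ a, a ≠ a₀ → ∃ g ∈ Subgroup.closure ({x, y} : Set (Equiv.Perm α)), g b₀ = a) :
    2 * (Fintype.card α - 2) ≤
      Module.finrank ℚ (diff x) + Module.finrank ℚ (diff y) + Module.finrank ℚ (diff z) := by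
  let f : (α → ℚ) →ₗ[ℚ] diff x × diff y × diff z :=
    (LinearMap.id - act x).rangeRestrict.prod
      ((LinearMap.id - act y).rangeRestrict.prod (LinearMap.id - act z).rangeRestrict)
  let β : diff x × diff y × diff z →ₗ[ℚ] (α → ℚ) :=
    (diff x).subtype.coprod
      (((act x).comp (diff y).subtype).coprod ((act (x * y)).comp (diff z).subtype))
  set W := LinearMap.range β with hW
  have hx : ∀ v, v - act x v ∈ W := fun v => ⟨(⟨_, mem_diff x v⟩, 0, 0), by simp [β]⟩
  have hxy : ∀ v, v - act (x * y) v ∈ W := fun v =>
    ⟨(⟨_, mem_diff x v⟩, ⟨_, mem_diff y v⟩, 0), by simp [β, act_mul]⟩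
  let S : Subgroup (Equiv.Perm α) :=
    { carrier := {g | ∀ v, v - act g v ∈ W}
      one_mem' := fun v => by rw [act_one, sub_self]; exact zero_mem _
      mul_mem' := fun {g h} hg hh v => by
        have e : v - act (g * h) v = (v - act h v) + (act h v - act g (act h v)) := by
          rw [act_mul]; abel
        rw [e]; exact add_mem (hh v) (hg _)
      inv_mem' := fun {g} hg v => by
        have e : v - act g⁻¹ v = -(act g⁻¹ v - act g (act g⁻¹ v)) := by
          rw [← act_mul, mul_inv_cancel, act_one]; abel
        rw [e]; exact neg_mem (hg _) }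
  have hS : Subgroup.closure ({x, y} : Set (Equiv.Perm α)) ≤ S := by
    rw [Subgroup.closure_le]
    rintro g (rfl | rfl)
    · exact hx
    · have h1 : g = x⁻¹ * (x * g) := by rw [inv_mul_cancel_left]
      show g ∈ S
      rw [h1]
      exact S.mul_mem (S.inv_mem hx) hxy
  have hdelta : ∀ a, a ≠ a₀ → Pi.single a (1 : ℚ) - Pi.single b₀ 1 ∈ W := by
    intro a ha
    obtain ⟨g, hg, rfl⟩ := htr a ha
    have h := hS hg (Pi.single b₀ 1)
    have e : act g (Pi.single b₀ (1 : ℚ)) = Pi.single (g b₀) 1 := by
      funext c
      rw [act_apply, Pi.single_apply, Pi.single_apply]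
      exact if_congr (Equiv.symm_apply_eq g) rfl rfl
    rw [e] at h
    simpa using neg_mem h
  let ψ : (α → ℚ) →ₗ[ℚ] ℚ × ℚ :=
    (LinearMap.proj a₀).prod (∑ a, LinearMap.proj a)
  have hψW : LinearMap.ker ψ ≤ W := by
    intro v hv
    rw [LinearMap.mem_ker] at hv
    obtain ⟨h0, hs⟩ := Prod.ext_iff.1 hv
    have h0' : v a₀ = 0 := h0
    have hs' : ∑ a, v a = 0 := by simpa [ψ] using hs
    have e : v = ∑ a, v a • (Pi.single a (1 : ℚ) - Pi.single b₀ 1) := by
      funext c
      rw [Finset.sum_apply]
      simp only [Pi.smul_apply, Pi.sub_apply, smul_eq_mul, mul_sub, Finset.sum_sub_distrib,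
        ← Finset.sum_mul, hs', zero_mul, sub_zero]
      simp [Pi.single_apply]
    rw [e]
    refine sum_mem fun a _ => ?_
    by_cases ha : a = a₀
    · rw [ha, h0', zero_smul]; exact zero_mem _
    · exact W.smul_mem _ (hdelta a ha)
  have h2 : ∀ U : Submodule ℚ (ℚ × ℚ), Module.finrank ℚ U ≤ 2 := fun U =>
    (Submodule.finrank_le U).trans (by simp)
  have hn : Module.finrank ℚ (α → ℚ) = Fintype.card α := Module.finrank_pi ℚ
  have hWd : Fintype.card α - 2 ≤ Module.finrank ℚ W := by
    have h := LinearMap.finrank_range_add_finrank_ker ψ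
    have := h2 (LinearMap.range ψ)
    have := Submodule.finrank_mono hψW
    omega
  have hfd : Fintype.card α - 2 ≤ Module.finrank ℚ (LinearMap.range f) := by
    have h := LinearMap.finrank_range_add_finrank_ker f
    let e : LinearMap.ker f →ₗ[ℚ] ℚ × ℚ :=
      ((LinearMap.proj a₀).prod (LinearMap.proj b₀)).comp (LinearMap.ker f).subtype
    have he : Function.Injective e := by
      rw [injective_iff_map_eq_zero]
      rintro ⟨v, hv⟩ he
      rw [LinearMap.mem_ker] at hv
      have hvx : act x v = v := by
        have h' : v - act x v = 0 := congrArg Subtype.val (congrArg Prod.fst hv)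
        exact (sub_eq_zero.1 h').symm
      have hvy : act y v = v := by
        have h' : v - act y v = 0 := congrArg Subtype.val (congrArg (fun t => t.2.1) hv)
        exact (sub_eq_zero.1 h').symm
      have hfix : ∀ g ∈ Subgroup.closure ({x, y} : Set (Equiv.Perm α)), act g v = v := by
        intro g hg
        induction hg using Subgroup.closure_induction with
        | mem w hw => rcases hw with rfl | rfl <;> assumption
        | one => rfl
        | mul g h _ _ hg hh => rw [act_mul, hh, hg]
        | inv g _ hg => conv_lhs => rw [← hg, ← act_mul, inv_mul_cancel, act_one]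
      obtain ⟨h0, h1⟩ := Prod.ext_iff.1 he
      have h0' : v a₀ = 0 := h0
      have h1' : v b₀ = 0 := h1
      apply Subtype.ext
      funext a
      by_cases ha : a = a₀
      · rw [ha]; exact h0'
      · obtain ⟨g, hg, rfl⟩ := htr a ha
        have := congrFun (hfix g hg) (g b₀)
        rw [act_apply, Equiv.symm_apply_apply] at this
        exact this.symm.trans h1'
    have := LinearMap.finrank_le_finrank_of_injective he
    have h22 : Module.finrank ℚ (ℚ × ℚ) = 2 := by simp
    omega
  have hle : LinearMap.range f ≤ LinearMap.ker β := by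
    rintro _ ⟨v, rfl⟩
    rw [LinearMap.mem_ker]
    have e : act (x * y) (act z v) = v := by rw [← act_mul, hxyz, act_one]
    show (v - act x v) + (act x (v - act y v) + act (x * y) (v - act z v)) = 0
    simp only [map_sub, e, ← act_mul]
    abel
  have htot := LinearMap.finrank_range_add_finrank_ker β
  rw [Module.finrank_prod, Module.finrank_prod] at htot
  have := Submodule.finrank_mono hle
  rw [← hW] at htot
  omega

/-- The rank of `1 - P` for prime order. -/
theorem rank_bound {σ : Equiv.Perm α} {p : ℕ} [hp : Fact p.Prime] (hσ : orderOf σ = p) :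
    p * Module.finrank ℚ (diff σ) +
        (p - 1) * (Finset.univ.filter fun a => σ a = a).card ≤ (p - 1) * Fintype.card α ∧
      p ∣ Fintype.card α - (Finset.univ.filter fun a => σ a = a).card := by
  classical
  set F := Finset.univ.filter fun a => σ a = a with hF
  refine ⟨?_, ?_⟩
  · let st : Setoid α := Equiv.Perm.SameCycle.setoid σ
    letI : Fintype (Quotient st) := Fintype.ofFinite _
    let q : α → Quotient st := fun a => Quotient.mk st a
    let e : (Quotient st → ℚ) →ₗ[ℚ] LinearMap.ker (LinearMap.id - act σ) :=
      { toFun := fun w => ⟨w ∘ q, by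
          rw [LinearMap.mem_ker, LinearMap.sub_apply, LinearMap.id_apply, sub_eq_zero]
          funext a
          show w (q a) = w (q (σ.symm a))
          exact congrArg w (Quotient.sound ⟨-1, by simp [zpow_neg]⟩)⟩
        map_add' := fun _ _ => rfl
        map_smul' := fun _ _ => rfl }
    have he : Function.Injective e := fun w w' h => by
      funext c
      obtain ⟨a, rfl⟩ := Quotient.exists_rep c
      exact congrFun (congrArg Subtype.val h) a
    have h1 := LinearMap.finrank_le_finrank_of_injective he
    rw [Module.finrank_pi] at h1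
    have h2 := LinearMap.finrank_range_add_finrank_ker (LinearMap.id - act σ)
    rw [Module.finrank_pi] at h2
    have h2' : Module.finrank ℚ (diff σ) + Module.finrank ℚ (LinearMap.ker (LinearMap.id - act σ)) =
        Fintype.card α := h2
    have hd : Module.finrank ℚ (diff σ) + Fintype.card (Quotient st) ≤ Fintype.card α := by omega
    -- count the points orbit by orbit
    have hfib : ∀ c, (Finset.univ.filter fun a => q a = c).card + (p - 1) * (F.filter fun a => q a = c).card ≤ p := by
      intro c
      obtain ⟨a, rfl⟩ := Quotient.exists_rep c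
      have hcyc : ∀ b, q b = q a → ∃ i < p, (σ ^ i) a = b := by
        intro b hb
        obtain ⟨i, hi, h⟩ := (Quotient.exact hb).symm.exists_pow_eq'
        exact ⟨i, hσ ▸ hi, h⟩
      have hall : (Finset.univ.filter fun b => q b = q a).card ≤ p := by
        refine (Finset.card_le_card (t := (Finset.range p).image fun i => (σ ^ i) a) fun b hb => ?_).trans
          (Finset.card_image_le.trans (Finset.card_range p).le)
        obtain ⟨i, hi, h⟩ := hcyc b (Finset.mem_filter.1 hb).2
        exact Finset.mem_image.2 ⟨i, Finset.mem_range.2 hi, h⟩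
      rcases (F.filter fun b => q b = q a).eq_empty_or_nonempty with he | ⟨b, hb⟩
      · rw [show (F.filter fun b => q b = Quotient.mk st a) = ∅ from he, Finset.card_empty, mul_zero, add_zero]
        exact hall
      · obtain ⟨hbF, hbq⟩ := Finset.mem_filter.1 hb
        have hb1 : σ b = b := (Finset.mem_filter.1 hbF).2
        have hsing : ∀ c, q c = q a → c = b := by
          intro c hc
          obtain ⟨i, hi⟩ := (Quotient.exact (hbq.trans hc.symm) : σ.SameCycle b c)
          rw [← hi, Equiv.Perm.zpow_apply_eq_self_of_apply_eq_self hb1]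
        have h1 : (Finset.univ.filter fun b => q b = q a).card ≤ 1 :=
          Finset.card_le_one.2 fun u hu v hv =>
            (hsing u (Finset.mem_filter.1 hu).2).trans (hsing v (Finset.mem_filter.1 hv).2).symm
        have h2 : (F.filter fun b => q b = q a).card ≤ 1 :=
          Finset.card_le_one.2 fun u hu v hv =>
            (hsing u (Finset.mem_filter.1 hu).2).trans (hsing v (Finset.mem_filter.1 hv).2).symm
        have h3 := hp.out.one_lt
        calc _ ≤ 1 + (p - 1) * 1 := Nat.add_le_add h1 (Nat.mul_le_mul_left _ h2)
          _ = p := by omega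
    have hsum := Finset.sum_le_sum fun c (_ : c ∈ (Finset.univ : Finset (Quotient st))) => hfib c
    rw [Finset.sum_add_distrib, ← Finset.mul_sum,
      ← Finset.card_eq_sum_card_fiberwise (fun a _ => Finset.mem_univ (q a)),
      ← Finset.card_eq_sum_card_fiberwise (fun a _ => Finset.mem_univ (q a)),
      Finset.sum_const, Finset.card_univ, Finset.card_univ, smul_eq_mul] at hsum
    have h4 := Nat.mul_le_mul_left p hd
    have hp1 : p * Fintype.card α = Fintype.card α + (p - 1) * Fintype.card α := by
      conv_lhs => rw [show p = 1 + (p - 1) by have := hp.out.one_lt; omega]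
      ring
    rw [mul_add, mul_comm p (Fintype.card (Quotient st))] at h4
    omega
  · obtain ⟨n, hn⟩ := Equiv.Perm.cycleType_prime_order (hσ.symm ▸ hp.out : (orderOf σ).Prime)
    have h := σ.sum_cycleType
    rw [hn, Multiset.sum_replicate, hσ, smul_eq_mul] at h
    have hs : σ.support.card + F.card = Fintype.card α := by
      rw [← Finset.card_univ, add_comm, hF,
        ← Finset.card_filter_add_card_filter_not (s := Finset.univ) (fun a => σ a = a)]
      rfl
    exact ⟨n + 1, by rw [mul_comm]; omega⟩

end Cfsg.Agent.M23Gen.Scott
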