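import Cfsg.Agent.Lib.M23Gen.Data
import Cfsg.Agent.Lib.M23Gen.Scott
import Cfsg.Agent.Lib.Golay.Small
import Cfsg.Agent.Lib.Golay.SylowCheck23

/-!
Fixed points of elements of prime order in M23 and the checked generating pairs.
-/

set_option autoImplicit false
set_option maxRecDepth 20000

namespace Cfsg.Agent.M23Gen.Use

open Cfsg Cfsg.Agent.Golay.Basic Cfsg.Agent.Golay.M24 Cfsg.Agent.Golay.Cert Cfsg.Agent.Golay.Perm
  Cfsg.Agent.Golay.Trans Cfsg.Agent.Golay.TabList Cfsg.Agent.Golay.SylowTwoData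

local notation "pG" => Equiv.Perm GolayPt

theorem M23_eq' : Spor.M23 = fixers Cfsg.M24 [pt 23] := by
  have h : (none : GolayPt) = pt 23 := by decide +kernel
  ext g
  simp [Spor.M23, mem_fixers, Equiv.Perm.smul_def, h]

theorem card_M23 : Nat.card Spor.M23 = 10200960 := by
  rw [M23_eq', card_fixers (List.nodup_singleton _) (by simp)]
  decide +kernel

theorem fix23 {g : pG} (hg : g ∈ Spor.M23) : g (pt 23) = pt 23 := by
  rw [M23_eq'] at hg
  exact hg.2 _ List.mem_cons_self

theorem mem_of_tab {t : ℕ} (h : tabOK t = true) (h23 : tabAt t 23 = 23) : tabPerm t ∈ Spor.M23 := by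
  rw [M23_eq']
  refine ⟨tabPerm_mem h, fun x hx => ?_⟩
  obtain rfl := List.mem_singleton.1 hx
  apply ix_injective
  rw [isTab_tabPerm h, ix_pt (by norm_num), h23]

theorem gens_ok : Data.gens.all tabOK = true := by decide +kernel

theorem gens_23 : Data.gens.all (fun t => tabAt t 23 == 23) = true := by decide +kernel

theorem chain_ok : chainOK Data.gens [] Data.chain = true := by decide +kernel

theorem gens_eq : tabGroup Data.gens = Spor.M23 :=
  tabGroup_eq gens_ok chain_ok
    (fun x hx => mem_of_tab (List.all_eq_true.1 gens_ok x hx)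
      (beq_iff_eq.1 (List.all_eq_true.1 gens_23 x hx)))
    (by rw [card_M23]; decide +kernel)

/-! ### Words -/

theorem evalT_append (X : List ℕ) : ∀ u v : List ℕ, evalT X (u ++ v) = evalT X u * evalT X v
  | [], v => (one_mul _).symm
  | k :: u, v => by
    show tabPerm _ * evalT X (u ++ v) = tabPerm _ * evalT X u * evalT X v
    rw [evalT_append X u v, mul_assoc]

theorem evalT_pow (X : List ℕ) (w : List ℕ) : ∀ n : ℕ,
    evalT X (List.flatten (List.replicate n w)) = evalT X w ^ n
  | 0 => by rw [List.replicate_zero, pow_zero]; rfl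
  | n + 1 => by rw [List.replicate_succ, List.flatten_cons, evalT_append, evalT_pow X w n, pow_succ']

/-- A word acts trivially. -/
def trivW (X : List ℕ) (w : List ℕ) : Bool := (List.range 24).all fun i => runT X w i == i

theorem trivW_iff {X : List ℕ} (hX : X.all tabOK = true) (w : List ℕ) :
    trivW X w = true ↔ evalT X w = 1 := by
  simp only [trivW, List.all_eq_true, List.mem_range, beq_iff_eq]
  constructor
  · intro h
    refine Equiv.ext fun p => ix_injective ?_
    rw [ix_evalT hX, h _ (ix_lt p)]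
    rfl
  · intro h i hi
    have := ix_evalT hX w (pt i)
    rw [h, ix_pt hi] at this
    simpa [ix_pt hi] using this.symm

/-- A word has prime order `p`. -/
def ordW (X w : List ℕ) (p : ℕ) : Bool :=
  trivW X (List.flatten (List.replicate p w)) && !trivW X w

theorem orderOf_of_ordW {X w : List ℕ} {p : ℕ} [Fact p.Prime] (hX : X.all tabOK = true)
    (h : ordW X w p = true) : orderOf (evalT X w) = p := by
  simp only [ordW, Bool.and_eq_true, Bool.not_eq_eq_eq_not, Bool.not_true] at h
  refine orderOf_eq_prime ?_ fun he => ?_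
  · rw [← evalT_pow]; exact (trivW_iff hX _).1 h.1
  · rw [(trivW_iff hX _).2 he] at h; exact absurd h.2 (by simp)

/-- The check of one generating pair. -/
def certOK (c : (ℕ × ℕ × ℕ) × List ℕ × List (List ℕ)) : Bool :=
  c.2.1.all tabOK && c.2.1.all (fun t => tabAt t 23 == 23) &&
  ordW c.2.1 [0] c.1.1 && ordW c.2.1 [1] c.1.2.1 && ordW c.2.1 [0, 1] c.1.2.2 &&
  c.2.1.length == 2 &&
  (List.range 4).all fun k => (List.range 24).all fun i =>
    runT c.2.1 (c.2.2.getD k []) i == tabAt (genTab Data.gens k) i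

theorem certs_ok : Data.certs.all certOK = true := by decide +kernel

attribute [local irreducible] tabOK tabPerm runT trivW ordW mulTab pack Data.certs in
theorem exists_of_cert {p q r : ℕ} [Fact p.Prime] [Fact q.Prime] [Fact r.Prime]
    (h : (Data.certs.map Prod.fst).contains (p, q, r) = true) :
    ∃ x y z : Spor.M23, orderOf x = p ∧ orderOf y = q ∧ orderOf z = r ∧ x * y * z = 1 ∧
      Subgroup.closure {x, y} = ⊤ := by
  rw [List.contains_iff_mem, List.mem_map] at h
  obtain ⟨⟨⟨_, _, _⟩, X, W⟩, hmem, he⟩ := h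
  cases he
  have hc := List.all_eq_true.1 certs_ok _ hmem
  simp only [certOK, Bool.and_eq_true, beq_iff_eq, List.all_eq_true, List.mem_range] at hc
  obtain ⟨⟨⟨⟨⟨⟨hok, h23⟩, hp⟩, hq⟩, hr⟩, hlen⟩, hw⟩ := hc
  have hX : X.all tabOK = true := List.all_eq_true.2 hok
  obtain ⟨a, b, rfl⟩ := List.length_eq_two.1 hlen
  have ha := mem_of_tab (hok a List.mem_cons_self) (h23 a List.mem_cons_self)
  have hb := mem_of_tab (hok b (List.mem_cons_of_mem _ List.mem_cons_self))
    (h23 b (List.mem_cons_of_mem _ List.mem_cons_self))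
  have e0 : evalT [a, b] [0] = tabPerm a := mul_one _
  have e1 : evalT [a, b] [1] = tabPerm b := mul_one _
  have e01 : evalT [a, b] [0, 1] = tabPerm a * tabPerm b := by
    show tabPerm a * (tabPerm b * 1) = _
    rw [mul_one]
  refine ⟨⟨_, ha⟩, ⟨_, hb⟩, (⟨_, ha⟩ * ⟨_, hb⟩)⁻¹, ?_, ?_, ?_, mul_inv_cancel _, ?_⟩
  · rw [← Subgroup.orderOf_coe]; show orderOf (tabPerm a) = _; rw [← e0]; exact orderOf_of_ordW hX hp
  · rw [← Subgroup.orderOf_coe]; show orderOf (tabPerm b) = _; rw [← e1]; exact orderOf_of_ordW hX hq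
  · rw [orderOf_inv, ← Subgroup.orderOf_coe]
    show orderOf (tabPerm a * tabPerm b) = _
    rw [← e01]; exact orderOf_of_ordW hX hr
  · refine Subgroup.map_injective Spor.M23.subtype_injective ?_
    rw [MonoidHom.map_closure, ← MonoidHom.range_eq_map, Subgroup.range_subtype]
    refine le_antisymm ((Subgroup.closure_le _).2 ?_) ?_
    · rintro _ ⟨⟨g, hg⟩, -, rfl⟩; exact hg
    · conv_lhs => rw [← gens_eq]
      refine tabGroup_le_of fun t ht => ?_
      obtain ⟨k, hk, hkt⟩ := List.getElem_of_mem ht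
      have hgk : genTab Data.gens k = t := by rw [genTab, List.getD_eq_getElem _ _ hk, hkt]
      have he : tabPerm t = evalT [a, b] (W.getD k []) := by
        refine Equiv.ext fun p => ix_injective ?_
        rw [ix_evalT hX, isTab_tabPerm (List.all_eq_true.1 gens_ok _ ht),
          hw k (lt_of_lt_of_le hk (by decide +kernel)) _ (ix_lt p), hgk]
      rw [he]
      refine tabGroup_le_of (fun u hu => ?_) (evalT_mem (X := [a, b]) _)
      rcases List.mem_cons.1 hu with rfl | hu
      · exact Subgroup.subset_closure ⟨⟨_, ha⟩, Set.mem_insert _ _, rfl⟩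
      · obtain rfl := List.mem_singleton.1 hu
        exact Subgroup.subset_closure ⟨⟨_, hb⟩, Set.mem_insert_of_mem _ rfl, rfl⟩

/-! ### Fixed points -/

/-- The fixed points of a permutation. -/
def fixSet (g : pG) : Finset GolayPt := Finset.univ.filter fun a => g a = a

theorem card_fixSet_conj (g x : pG) : (fixSet (g * x * g⁻¹)).card = (fixSet x).card := by
  have e : fixSet (g * x * g⁻¹) = (fixSet x).map g.toEmbedding := by
    ext a
    simp only [fixSet, Finset.mem_filter, Finset.mem_univ, true_and, Finset.mem_map_equiv]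
    rw [Equiv.Perm.mul_apply, Equiv.Perm.mul_apply, Equiv.eq_symm_apply g |>.symm]
    rfl
  rw [e, Finset.card_map]

theorem le_fixSet {g : pG} {F : ℕ → ℕ} (hF : ∀ p, ix (g p) = F (ix p)) :
    ((List.range 24).filter fun i => F i == i).length ≤ (fixSet g).card := by
  set l := (List.range 24).filter fun i => F i == i with hl
  have hlt : ∀ i ∈ l, i < 24 := fun i hi => List.mem_range.1 (List.mem_filter.1 hi).1
  have hnd : (l.map pt).Nodup :=
    (List.nodup_range.filter _).map_on fun a ha b hb h => by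
      rw [← ix_pt (hlt a ha), h, ix_pt (hlt b hb)]
  have := List.toFinset_card_of_nodup hnd
  rw [List.length_map] at this
  rw [← this]
  refine Finset.card_le_card fun p hp => ?_
  obtain ⟨i, hi, rfl⟩ := List.mem_map.1 (List.mem_toFinset.1 hp)
  refine Finset.mem_filter.2 ⟨Finset.mem_univ _, ix_injective ?_⟩
  rw [hF, ix_pt (hlt i hi)]
  exact beq_iff_eq.1 (List.mem_filter.1 hi).2

theorem exists_conj_mem {G : Type*} [Group G] [Finite G] {p n : ℕ} [hp : Fact p.Prime]
    {P : Subgroup G} (hP : Nat.card P = p ^ n) (hn : ¬ p ^ (n + 1) ∣ Nat.card G) {x : G}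
    (hx : x ^ p = 1) : ∃ g : G, g * x * g⁻¹ ∈ P := by
  have hz : IsPGroup p (Subgroup.zpowers x) := by
    rintro ⟨y, hy⟩
    obtain ⟨k, rfl⟩ := Subgroup.mem_zpowers_iff.1 hy
    refine ⟨1, Subtype.ext ?_⟩
    show (x ^ k) ^ (p ^ 1) = 1
    rw [pow_one, ← zpow_natCast, ← zpow_mul, mul_comm, zpow_mul, zpow_natCast, hx, one_zpow]
  obtain ⟨S, hS⟩ := hz.exists_le_sylow
  have hfac : n = (Nat.card G).factorization p := by
    refine le_antisymm ((hp.out.pow_dvd_iff_le_factorization Nat.card_pos.ne').1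
      (hP ▸ Subgroup.card_subgroup_dvd_card P)) ?_
    by_contra h
    exact hn ((hp.out.pow_dvd_iff_le_factorization Nat.card_pos.ne').2 (by omega))
  let T : Sylow p G := Sylow.ofCard P (by rw [hP, ← hfac])
  obtain ⟨g, hg⟩ := MulAction.exists_smul_eq G S T
  refine ⟨g, ?_⟩
  have hx' : x ∈ (S : Subgroup G) := hS (Subgroup.mem_zpowers x)
  have : g * x * g⁻¹ ∈ ((g • S : Sylow p G) : Subgroup G) :=
    ⟨x, hx', rfl⟩
  rw [hg] at this
  exact this

theorem two_ok : s23Elems.all (fun t => t == idTab || mulTab t t != idTab ||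
    decide (8 ≤ ((List.range 24).filter fun i => tabAt t i == i).length)) = true := by decide +kernel

theorem s23_in : tabGroup s23Pc ≤ Spor.M23 :=
  tabGroup_le_of fun t ht => by
    have hpc : s23Pc.all tabOK = true := by
      have h := Golay.SylowTwo.s23_list
      simp only [listOK, Bool.and_eq_true] at h
      exact h.1.1.1.1
    exact mem_of_tab (List.all_eq_true.1 hpc t ht)
      (beq_iff_eq.1 (List.all_eq_true.1 Golay.SylowTwo.s23_inG t ht))

theorem fix_two {x : Spor.M23} (hx : orderOf x = 2) : 8 ≤ (fixSet (x : pG)).card := by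
  haveI : Fact (Nat.Prime 2) := ⟨Nat.prime_two⟩
  obtain ⟨hspec, hmem, -⟩ := spec Golay.SylowTwo.s23_list
  have hcard : Nat.card ((tabGroup s23Pc).subgroupOf Spor.M23) = 2 ^ 7 := by
    rw [Nat.card_congr (Subgroup.subgroupOfEquivOfLe s23_in).toEquiv, card_tabGroup Golay.SylowTwo.s23_list]
    decide +kernel
  obtain ⟨g, hg⟩ := exists_conj_mem hcard (by rw [card_M23]; norm_num) (hx ▸ pow_orderOf_eq_one x)
  obtain ⟨t, ht, he⟩ := (hmem _).1 (Subgroup.mem_subgroupOf.1 hg)
  rw [← card_fixSet_conj (g : pG) (x : pG)]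
  simp only [Subgroup.coe_mul, Subgroup.coe_inv] at he
  rw [he]
  obtain ⟨hT, hcan⟩ := hspec t ht
  have h := List.all_eq_true.1 two_ok t ht
  simp only [Bool.or_eq_true, beq_iff_eq, bne_iff_ne, decide_eq_true_eq] at h
  rcases h with (h | h) | h
  · exfalso
    rw [h, tabPerm_idTab, mul_inv_eq_one, mul_eq_left] at he
    rw [show x = 1 from Subtype.ext he, orderOf_one] at hx
    omega
  · exfalso
    refine h (eq_of_isTab (canon_mulTab t t) canon_idTab (isTab_mul hT hT) ?_)
    have hsq : tabPerm t * tabPerm t = 1 := by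
      have hx2 : (x : pG) * x = 1 := by
        rw [← Subgroup.coe_mul, ← pow_two, ← hx, pow_orderOf_eq_one]; rfl
      rw [← he]
      calc (g : pG) * x * (g : pG)⁻¹ * ((g : pG) * x * (g : pG)⁻¹) = g * ((x : pG) * x) * (g : pG)⁻¹ := by group
        _ = 1 := by rw [hx2, mul_one, mul_inv_cancel]
    rw [hsq]
    exact isTab_one
  · exact h.trans (le_fixSet hT)

/-- The words of the subgroup of order nine. -/
def nineWords : List (List ℕ) :=
  [[], [0], [0, 0], [1], [0, 1], [0, 0, 1], [1, 1], [0, 1, 1], [0, 0, 1, 1]]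

theorem three_ok : Data.three.all tabOK = true ∧ Data.three.all (fun t => tabAt t 23 == 23) = true ∧
    Data.three.length = 2 ∧
    ((List.range 3).all fun i => (List.range 3).all fun j =>
      ((i == 0 && j == 0) ||
        decide (6 ≤ ((List.range 24).filter fun m =>
          runT Data.three (List.replicate i 0 ++ List.replicate j 1) m == m).length)) &&
      ((i == 0 && j == 0) || !trivW Data.three (List.replicate i 0 ++ List.replicate j 1))) = true ∧
    trivW Data.three [0, 0, 0] = true ∧ trivW Data.three [1, 1, 1] = true ∧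
    ((List.range 24).all fun m => runT Data.three [0, 1] m == runT Data.three [1, 0] m) = true := by
  decide +kernel

theorem fix_three {x : Spor.M23} (hx : orderOf x = 3) : 6 ≤ (fixSet (x : pG)).card := by
  haveI : Fact (Nat.Prime 3) := ⟨Nat.prime_three⟩
  obtain ⟨hok, h23, hlen, hij, hA, hB, hAB⟩ := three_ok
  obtain ⟨a, b, hab⟩ := List.length_eq_two.1 hlen
  rw [hab] at hok h23 hij hA hB hAB
  have ha := mem_of_tab (List.all_eq_true.1 hok a List.mem_cons_self)
    (beq_iff_eq.1 (List.all_eq_true.1 h23 a List.mem_cons_self))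
  have hb := mem_of_tab (List.all_eq_true.1 hok b (List.mem_cons_of_mem _ List.mem_cons_self))
    (beq_iff_eq.1 (List.all_eq_true.1 h23 b (List.mem_cons_of_mem _ List.mem_cons_self)))
  simp only [List.all_eq_true, List.mem_range, Bool.and_eq_true, Bool.or_eq_true, beq_iff_eq,
    decide_eq_true_eq, Bool.not_eq_eq_eq_not, Bool.not_true] at hij hAB
  let A : Spor.M23 := ⟨_, ha⟩
  let Bb : Spor.M23 := ⟨_, hb⟩
  have e0 : evalT [a, b] [0] = (A : pG) := mul_one _
  have e1 : evalT [a, b] [1] = (Bb : pG) := mul_one _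
  have hA3 : A ^ 3 = 1 := Subtype.ext (by
    rw [Subgroup.coe_pow, ← e0, ← evalT_pow]; exact (trivW_iff hok _).1 hA)
  have hB3 : Bb ^ 3 = 1 := Subtype.ext (by
    rw [Subgroup.coe_pow, ← e1, ← evalT_pow]; exact (trivW_iff hok _).1 hB)
  have hcomm : Commute A Bb := Subtype.ext (by
    show (A : pG) * Bb = Bb * A
    rw [← e0, ← e1, ← evalT_append, ← evalT_append]
    refine Equiv.ext fun p => ix_injective ?_
    rw [ix_evalT hok, ix_evalT hok]
    exact hAB _ (ix_lt p))
  have hword : ∀ i j : ℕ, evalT [a, b] (List.replicate i 0 ++ List.replicate j 1) = ((A ^ i * Bb ^ j : Spor.M23) : pG) := by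
    intro i j
    have hrep : ∀ (c k : ℕ), List.flatten (List.replicate k [c]) = List.replicate k c := fun c k => by
      induction k with
      | zero => rfl
      | succ k ih => rw [List.replicate_succ, List.flatten_cons, ih, List.replicate_succ]; rfl
    rw [evalT_append, ← hrep 0 i, ← hrep 1 j, evalT_pow, evalT_pow, e0, e1]
    rfl
  let f : Fin 3 × Fin 3 → Spor.M23 := fun t => A ^ (t.1 : ℕ) * Bb ^ (t.2 : ℕ)
  have hmod : ∀ i j : ℕ, A ^ i * Bb ^ j = A ^ (i % 3) * Bb ^ (j % 3) := fun i j => by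
    rw [← pow_eq_pow_mod _ hA3, ← pow_eq_pow_mod _ hB3]
  let P : Subgroup Spor.M23 :=
    { carrier := {w | ∃ i j : ℕ, A ^ i * Bb ^ j = w}
      one_mem' := ⟨0, 0, by simp⟩
      mul_mem' := by
        rintro _ _ ⟨i, j, rfl⟩ ⟨k, l, rfl⟩
        refine ⟨i + k, j + l, ?_⟩
        rw [pow_add, pow_add, mul_assoc, ← mul_assoc (A ^ k), (hcomm.pow_pow k j).eq]
        simp [mul_assoc]
      inv_mem' := by
        rintro _ ⟨i, j, rfl⟩
        refine ⟨2 * i, 2 * j, eq_inv_of_mul_eq_one_left ?_⟩
        rw [mul_assoc, ← mul_assoc (Bb ^ (2 * j)), ← (hcomm.pow_pow i (2 * j)).eq, mul_assoc (A ^ i),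
          ← pow_add, ← mul_assoc, ← pow_add, show 2 * i + i = 3 * i by ring,
          show 2 * j + j = 3 * j by ring, pow_mul, pow_mul, hA3, hB3, one_pow, one_pow, one_mul] }
  have hne : ∀ i j : ℕ, i < 3 → j < 3 → A ^ i * Bb ^ j = 1 → i = 0 ∧ j = 0 := by
    intro i j hi hj h
    rcases (hij i hi j hj).2 with h' | h'
    · exact h'
    · rw [(trivW_iff hok _).2 (by rw [hword, h]; rfl)] at h'
      cases h'
  have hcard : Nat.card P = 3 ^ 2 := by
    let g : Fin 3 × Fin 3 → P := fun t => ⟨f t, t.1, t.2, rfl⟩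
    have hg : Function.Bijective g := by
      refine ⟨fun ⟨i, j⟩ ⟨k, l⟩ h => ?_, fun ⟨w, i, j, h⟩ => ?_⟩
      · have h' : A ^ (i : ℕ) * Bb ^ (j : ℕ) = A ^ (k : ℕ) * Bb ^ (l : ℕ) := congrArg Subtype.val h
        have h1 : A ^ ((i + 2 * k : ℕ) % 3) * Bb ^ ((j + 2 * l : ℕ) % 3) = 1 := by
          rw [← hmod, pow_add, pow_add, mul_assoc, ← mul_assoc (A ^ (2 * (k : ℕ))),
            (hcomm.pow_pow _ _).eq, mul_assoc (Bb ^ (j : ℕ)), ← mul_assoc (A ^ (i : ℕ)), h',
            mul_assoc, ← mul_assoc (Bb ^ (l : ℕ)), ← (hcomm.pow_pow (2 * (k : ℕ)) (l : ℕ)).eq,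
            mul_assoc (A ^ (2 * (k : ℕ))), ← pow_add, ← mul_assoc, ← pow_add,
            show (k : ℕ) + 2 * k = 3 * k by ring, show (l : ℕ) + 2 * l = 3 * l by ring,
            pow_mul, pow_mul, hA3, hB3, one_pow, one_pow, one_mul]
        obtain ⟨h2, h3⟩ := hne _ _ (Nat.mod_lt _ (by norm_num)) (Nat.mod_lt _ (by norm_num)) h1
        have := i.2; have := j.2; have := k.2; have := l.2
        exact Prod.ext (Fin.ext (by simp only; omega)) (Fin.ext (by simp only; omega))
      · exact ⟨(⟨i % 3, Nat.mod_lt _ (by norm_num)⟩, ⟨j % 3, Nat.mod_lt _ (by norm_num)⟩),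
          Subtype.ext ((hmod i j).symm.trans h)⟩
    rw [← Nat.card_congr (Equiv.ofBijective g hg)]
    simp
  obtain ⟨g, i, j, he⟩ := exists_conj_mem hcard (by rw [card_M23]; norm_num) (hx ▸ pow_orderOf_eq_one x)
  rw [hmod] at he
  rw [← card_fixSet_conj (g : pG) (x : pG), ← Subgroup.coe_inv, ← Subgroup.coe_mul, ← Subgroup.coe_mul,
    ← he, ← hword]
  rcases (hij (i % 3) (Nat.mod_lt _ (by norm_num)) (j % 3) (Nat.mod_lt _ (by norm_num))).1 with h | h
  · exfalso
    rw [h.1, h.2, pow_zero, pow_zero, one_mul, eq_comm, mul_inv_eq_one, mul_eq_left] at he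
    rw [he, orderOf_one] at hx
    omega
  · exact h.trans (le_fixSet (ix_evalT hok _))

end Cfsg.Agent.M23Gen.Use
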